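import Groth.Agent.FlatA.ZMTFactor

/-!
Finite surjective covers of a Noetherian scheme over which a given monic polynomial with
coefficients on an affine open splits.
-/

set_option autoImplicit false
universe u
open CategoryTheory CategoryTheory.Limits AlgebraicGeometry

namespace K955.FinCover

theorem adjoinRoot_of_injective {A : Type u} [CommRing A] {P : Polynomial A} (hP : P.Monic)
    (hd : 0 < P.natDegree) : Function.Injective (AdjoinRoot.of P) := by
  rw [injective_iff_map_eq_zero]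
  intro a ha
  by_contra hne
  have h1 : AdjoinRoot.mk P (Polynomial.C a) = 0 := by simpa using ha
  rw [AdjoinRoot.mk_eq_zero] at h1
  refine hP.not_dvd_of_degree_lt (by simpa using hne) ?_ h1
  rw [Polynomial.degree_C hne]
  exact Polynomial.natDegree_pos_iff_degree_pos.mp hd

/-- `Spec A[x]/P → Spec A` for monic nonconstant `P`. -/
theorem isFinite_spec {A : CommRingCat.{u}} {P : Polynomial A} (hP : P.Monic) :
    IsFinite (Spec.map (CommRingCat.ofHom (AdjoinRoot.of P))) := by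
  rw [IsFinite.SpecMap_iff]
  have : Module.Finite A (AdjoinRoot P) := hP.finite_adjoinRoot
  exact RingHom.finite_algebraMap.mpr this

theorem surjective_spec {A : CommRingCat.{u}} {P : Polynomial A} (hP : P.Monic)
    (hd : 0 < P.natDegree) :
    Surjective (Spec.map (CommRingCat.ofHom (AdjoinRoot.of P))) := by
  have : Module.Finite A (AdjoinRoot P) := hP.finite_adjoinRoot
  have h1 : (AdjoinRoot.of P).Finite := RingHom.finite_algebraMap.mpr this
  exact ⟨h1.to_isIntegral.comap_surjective (adjoinRoot_of_injective hP hd)⟩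


/-- A root of `P` (coefficients in `Γ(Y, U)`) over `g⁻¹U`. -/
def HasRoot {Y Y' : Scheme.{u}} (g : Y' ⟶ Y) (U : Y.Opens) (P : Polynomial Γ(Y, U)) : Prop :=
  ∃ t : Γ(Y', g ⁻¹ᵁ U), P.eval₂ (g.app U).hom t = 0

theorem HasRoot.comp {Y Y' Y'' : Scheme.{u}} (f : Y'' ⟶ Y') (g : Y' ⟶ Y) {U : Y.Opens}
    {P : Polynomial Γ(Y, U)} (h : HasRoot g U P) : HasRoot (f ≫ g) U P := by
  obtain ⟨t, ht⟩ := h
  refine ⟨(f.app (g ⁻¹ᵁ U)).hom t, ?_⟩
  have h1 := congrArg (f.app (g ⁻¹ᵁ U)).hom ht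
  rw [map_zero, Polynomial.hom_eval₂] at h1
  exact h1

theorem HasRoot.of_comp {Y Y' Y'' : Scheme.{u}} (f : Y'' ⟶ Y') (g : Y' ⟶ Y) {U : Y.Opens}
    {P : Polynomial Γ(Y, U)} [IsIso (f.app (g ⁻¹ᵁ U))] (h : HasRoot (f ≫ g) U P) :
    HasRoot g U P := by
  obtain ⟨t, ht⟩ := h
  have hb := (ConcreteCategory.isIso_iff_bijective (f.app (g ⁻¹ᵁ U))).mp inferInstance
  obtain ⟨t', rfl⟩ := hb.2 t
  refine ⟨t', hb.1 ?_⟩
  rw [map_zero]
  exact (Polynomial.hom_eval₂ P (g.app U).hom (f.app (g ⁻¹ᵁ U)).hom t').trans ht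

/-- the morphism from the affine scheme. -/
theorem hasRoot_spec {Y : Scheme.{u}} {U : Y.Opens} (hU : IsAffineOpen U)
    (P : Polynomial Γ(Y, U)) :
    HasRoot (Spec.map (CommRingCat.ofHom (AdjoinRoot.of P)) ≫ hU.fromSpec) U P := by
  let D : CommRingCat.{u} := CommRingCat.of (AdjoinRoot P)
  let φ : Γ(Y, U) ⟶ D := CommRingCat.ofHom (AdjoinRoot.of P)
  let V : (Spec D).Opens := (Spec.map φ) ⁻¹ᵁ (hU.fromSpec ⁻¹ᵁ U)
  let ψ : D ⟶ Γ(Spec D, V) := (Scheme.ΓSpecIso D).inv ≫ (Spec D).presheaf.map (homOfLE le_top).op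
  have h1 : (Spec.map φ ≫ hU.fromSpec).app U = φ ≫ ψ := by
    rw [Scheme.Hom.comp_app, hU.fromSpec_app_self]
    simp only [Category.assoc]
    erw [Scheme.Hom.naturality]
    rw [Scheme.ΓSpecIso_inv_naturality_assoc]
    rfl
  refine ⟨ψ.hom (AdjoinRoot.root P), ?_⟩
  rw [h1]
  have h2 : Polynomial.eval₂ φ.hom (AdjoinRoot.root P) P = 0 := AdjoinRoot.eval₂_root P
  refine (Polynomial.hom_eval₂ P φ.hom ψ.hom (AdjoinRoot.root P)).symm.trans ?_
  rw [h2]
  exact map_zero ψ.hom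

theorem exists_root {Y : Scheme.{u}} [CompactSpace Y] [QuasiSeparatedSpace Y] {U : Y.Opens}
    (hU : IsAffineOpen U) {P : Polynomial Γ(Y, U)} (hP : P.Monic) (hd : 0 < P.natDegree) :
    ∃ (Y' : Scheme.{u}) (g : Y' ⟶ Y), IsFinite g ∧ Surjective g ∧ HasRoot g U P := by
  have hroot := hasRoot_spec hU P
  have hfin : IsFinite (Spec.map (CommRingCat.ofHom (AdjoinRoot.of P))) := isFinite_spec hP
  have hsurj : Surjective (Spec.map (CommRingCat.ofHom (AdjoinRoot.of P))) :=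
    surjective_spec hP hd
  have : QuasiCompact hU.fromSpec := inferInstance
  generalize hh : Spec.map (CommRingCat.ofHom (AdjoinRoot.of P)) ≫ hU.fromSpec = h at hroot
  have : QuasiCompact h := by rw [← hh]; infer_instance
  have : LocallyQuasiFinite h := by rw [← hh]; infer_instance
  have : LocallyOfFiniteType h := by rw [← hh]; infer_instance
  have : IsSeparated h := by rw [← hh]; infer_instance
  have hrange : Set.range h = U := by
    rw [← hh, Scheme.Hom.comp_base, TopCat.coe_comp, Set.range_comp,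
      Set.range_eq_univ.mpr hsurj.surj, Set.image_univ, hU.range_fromSpec]
  obtain ⟨T, j, π, h1, h2, h3, h4, h5⟩ := Groth.Agent.FlatA.ZMTFactor.exists_factor h
  -- the inverse image of `U` is the image of `j`
  have hge : j.opensRange ≤ π ⁻¹ᵁ U := by
    rintro _ ⟨x, rfl⟩
    change π (j x) ∈ U
    rw [← Scheme.Hom.comp_apply, h5]
    exact hrange.le ⟨x, rfl⟩
  have hle : π ⁻¹ᵁ U ≤ j.opensRange := by
    let j' : Spec (.of (AdjoinRoot P)) ⟶ (π ⁻¹ᵁ U).toScheme := IsOpenImmersion.lift (π ⁻¹ᵁ U).ι j (by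
      rw [Scheme.Opens.range_ι]; exact hge)
    have hj' : j' ≫ (π ⁻¹ᵁ U).ι = j := IsOpenImmersion.lift_fac _ _ _
    have hfin' : IsFinite (j' ≫ (π ∣_ U)) := by
      have e1 : j' ≫ (π ∣_ U) = Spec.map (CommRingCat.ofHom (AdjoinRoot.of P)) ≫
          (hU.isoSpec.inv) := by
        rw [← cancel_mono U.ι, Category.assoc, morphismRestrict_ι, reassoc_of% hj', h5, ← hh,
          Category.assoc]
        congr 1
      rw [e1]
      infer_instance
    have hfin'' : IsFinite j' := .of_comp _ (π ∣_ U)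
    have hcl : IsClosed (Set.range j') := j'.isClosedMap.isClosed_range
    intro x hx
    obtain ⟨y, hy⟩ : (⟨x, hx⟩ : π ⁻¹ᵁ U) ∈ Set.range j' := by
      have hpre : Set.range j' = (π ⁻¹ᵁ U).ι ⁻¹' Set.range j := by
        ext z
        constructor
        · rintro ⟨y, rfl⟩
          exact ⟨y, by rw [← Scheme.Hom.comp_apply, hj']⟩
        · rintro ⟨y, hy⟩
          refine ⟨y, (π ⁻¹ᵁ U).ι.isOpenEmbedding.injective ?_⟩
          rw [← Scheme.Hom.comp_apply, hj', hy]
      rw [← hcl.closure_eq, hpre,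
        ← (π ⁻¹ᵁ U).ι.isOpenEmbedding.isOpenMap.preimage_closure_eq_closure_preimage
          (π ⁻¹ᵁ U).ι.continuous, h2.denseRange.closure_eq]
      trivial
    refine ⟨y, ?_⟩
    rw [← hj', Scheme.Hom.comp_apply, hy]
    rfl
  -- the root on `T`
  have hrootT : HasRoot π U P := by
    have : IsIso (j.app (π ⁻¹ᵁ U)) := j.isIso_app _ hle
    exact HasRoot.of_comp j π (h5.symm ▸ hroot)
  -- the complement
  let Z : TopologicalSpace.Closeds Y := ⟨(U : Set Y)ᶜ, by simpa using U.isOpen⟩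
  let k := (Scheme.IdealSheafData.vanishingIdeal Z).subschemeι
  have hk : Set.range k = (U : Set Y)ᶜ := by
    rw [Scheme.IdealSheafData.range_subschemeι]
    simp [Z]
  refine ⟨T ⨿ (Scheme.IdealSheafData.vanishingIdeal Z).subscheme, coprod.desc π k,
    inferInstance, ⟨fun y => ?_⟩, ?_⟩
  · by_cases hy : y ∈ U
    · obtain ⟨x, hx⟩ := hrange.ge hy
      refine ⟨(coprod.inl : T ⟶ T ⨿ _) (j x), ?_⟩
      rw [← Scheme.Hom.comp_apply, coprod.inl_desc, ← Scheme.Hom.comp_apply, h5, hx]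
    · obtain ⟨x, hx⟩ := hk.ge hy
      refine ⟨(coprod.inr : _ ⟶ T ⨿ _) x, ?_⟩
      rw [← Scheme.Hom.comp_apply, coprod.inr_desc, hx]
  · have hle' : coprod.desc π k ⁻¹ᵁ U ≤ (coprod.inl : T ⟶ T ⨿ _).opensRange := by
      intro x hx
      rcases (isCompl_range_inl_inr T (Scheme.IdealSheafData.vanishingIdeal Z).subscheme).2.top_le
        (Set.mem_univ x) with h | h
      · exact h
      · obtain ⟨y, rfl⟩ := h
        exfalso
        have h7 : k y ∈ U := by
          have : (coprod.desc π k) ((coprod.inr : _ ⟶ T ⨿ _) y) ∈ U := hx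
          rwa [← Scheme.Hom.comp_apply, coprod.inr_desc] at this
        exact hk.le ⟨y, rfl⟩ h7
    have : IsIso ((coprod.inl : T ⟶ T ⨿ _).app (coprod.desc π k ⁻¹ᵁ U)) :=
      (coprod.inl : T ⟶ T ⨿ _).isIso_app _ hle'
    refine HasRoot.of_comp (coprod.inl : T ⟶ T ⨿ _) (coprod.desc π k) ?_
    rw [coprod.inl_desc]
    exact hrootT


/-- `P` is a product of linear factors over `g⁻¹U`. -/
def SplitsOver {Y Y' : Scheme.{u}} (g : Y' ⟶ Y) (U : Y.Opens) (P : Polynomial Γ(Y, U)) : Prop :=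
  ∃ s : Multiset Γ(Y', g ⁻¹ᵁ U),
    P.map (g.app U).hom = (s.map (fun a => Polynomial.X - Polynomial.C a)).prod

theorem map_prod_X_sub_C {R S : Type*} [CommRing R] [CommRing S] (φ : R →+* S)
    (s : Multiset R) :
    ((s.map (fun a => Polynomial.X - Polynomial.C a)).prod).map φ =
      ((s.map φ).map (fun a => Polynomial.X - Polynomial.C a)).prod := by
  rw [← Polynomial.coe_mapRingHom φ, map_multiset_prod, Multiset.map_map, Multiset.map_map]
  congr 1
  refine Multiset.map_congr rfl fun a _ => ?_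
  simp

theorem SplitsOver.comp {Y Y' Y'' : Scheme.{u}} (f : Y'' ⟶ Y') (g : Y' ⟶ Y) {U : Y.Opens}
    {P : Polynomial Γ(Y, U)} (h : SplitsOver g U P) : SplitsOver (f ≫ g) U P := by
  obtain ⟨s, hs⟩ := h
  refine ⟨s.map (f.app (g ⁻¹ᵁ U)).hom, ?_⟩
  have h1 := congrArg (Polynomial.map (f.app (g ⁻¹ᵁ U)).hom) hs
  rw [Polynomial.map_map, map_prod_X_sub_C] at h1
  exact h1

theorem SplitsOver.comp' {Y Y' Y'' : Scheme.{u}} (f : Y'' ⟶ Y') (g : Y' ⟶ Y) {U : Y.Opens}
    {P : Polynomial Γ(Y, U)} (h : SplitsOver f (g ⁻¹ᵁ U) (P.map (g.app U).hom)) :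
    SplitsOver (f ≫ g) U P := by
  obtain ⟨s, hs⟩ := h
  refine ⟨s, ?_⟩
  rw [Polynomial.map_map] at hs
  exact hs

theorem exists_splits (n : ℕ) : ∀ {Y : Scheme.{u}} [CompactSpace Y] [QuasiSeparatedSpace Y]
    {U : Y.Opens} (_ : IsAffineOpen U) {P : Polynomial Γ(Y, U)} (_ : P.Monic)
    (_ : P.natDegree ≤ n),
    ∃ (Y' : Scheme.{u}) (g : Y' ⟶ Y), IsFinite g ∧ Surjective g ∧ SplitsOver g U P := by
  induction n with
  | zero =>
    intro Y _ _ U hU P hP hd
    have h1 : P = 1 := hP.natDegree_eq_zero.mp (by omega)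
    refine ⟨Y, 𝟙 Y, inferInstance, inferInstance, 0, ?_⟩
    subst h1
    rw [Multiset.map_zero, Multiset.prod_zero]
    exact Polynomial.map_one _
  | succ n ih =>
    intro Y _ _ U hU P hP hd
    rcases Nat.eq_zero_or_pos P.natDegree with h0 | hpos
    · have h1 : P = 1 := hP.natDegree_eq_zero.mp (by omega)
      refine ⟨Y, 𝟙 Y, inferInstance, inferInstance, 0, ?_⟩
      subst h1
      rw [Multiset.map_zero, Multiset.prod_zero]
      exact Polynomial.map_one _
    obtain ⟨Y₁, g₁, hf, hs, t, ht⟩ := exists_root hU hP hpos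
    have : CompactSpace Y₁ := QuasiCompact.compactSpace_of_compactSpace g₁
    have : QuasiSeparatedSpace Y₁ := quasiSeparatedSpace_of_quasiSeparated g₁
    let P₁ : Polynomial Γ(Y₁, g₁ ⁻¹ᵁ U) := P.map (g₁.app U).hom
    have hP₁ : P₁.Monic := hP.map _
    have hroot : P₁.IsRoot t := by
      rw [Polynomial.IsRoot, Polynomial.eval_map]
      exact ht
    let Q := P₁ /ₘ (Polynomial.X - Polynomial.C t)
    have hQ : (Polynomial.X - Polynomial.C t) * Q = P₁ :=
      Polynomial.mul_divByMonic_eq_iff_isRoot.mpr hroot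
    have hQm : Q.Monic := (Polynomial.monic_X_sub_C t).of_mul_monic_left (hQ.symm ▸ hP₁)
    have hQd : Q.natDegree ≤ n := by
      rcases subsingleton_or_nontrivial Γ(Y₁, g₁ ⁻¹ᵁ U) with h | h
      · rw [Polynomial.natDegree_of_subsingleton]
        omega
      · have : Q.natDegree = P₁.natDegree - 1 := by
          rw [Polynomial.natDegree_divByMonic _ (Polynomial.monic_X_sub_C t),
            Polynomial.natDegree_X_sub_C]
        have h2 : P₁.natDegree ≤ P.natDegree := Polynomial.natDegree_map_le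
        omega
    obtain ⟨Y₂, g₂, hf₂, hs₂, s, hsplit⟩ := ih (hU.preimage g₁) hQm hQd
    refine ⟨Y₂, g₂ ≫ g₁, inferInstance, inferInstance, SplitsOver.comp' g₂ g₁
      ⟨(g₂.app _).hom t ::ₘ s, ?_⟩⟩
    change P₁.map _ = _
    rw [← hQ, Polynomial.map_mul, hsplit, Multiset.map_cons, Multiset.prod_cons]
    simp

theorem exists_splits_family {Y : Scheme.{u}} [CompactSpace Y] [QuasiSeparatedSpace Y]
    {κ : Type*} (U : κ → Y.Opens) (hU : ∀ k, IsAffineOpen (U k)) (P : ∀ k, Polynomial Γ(Y, U k))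
    (hP : ∀ k, (P k).Monic) (s : Finset κ) :
    ∃ (Y' : Scheme.{u}) (g : Y' ⟶ Y), IsFinite g ∧ Surjective g ∧
      ∀ k ∈ s, SplitsOver g (U k) (P k) := by
  classical
  induction s using Finset.induction_on with
  | empty => exact ⟨Y, 𝟙 Y, inferInstance, inferInstance, by simp⟩
  | insert a s ha ih =>
    obtain ⟨Y₁, g₁, h1, h2, h3⟩ := ih
    have : CompactSpace Y₁ := QuasiCompact.compactSpace_of_compactSpace g₁
    have : QuasiSeparatedSpace Y₁ := quasiSeparatedSpace_of_quasiSeparated g₁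
    obtain ⟨Y₂, g₂, h4, h5, h6⟩ := exists_splits _ ((hU a).preimage g₁)
      ((hP a).map (g₁.app (U a)).hom) le_rfl
    refine ⟨Y₂, g₂ ≫ g₁, inferInstance, inferInstance, fun k hk => ?_⟩
    rcases Finset.mem_insert.mp hk with rfl | hk
    · exact SplitsOver.comp' g₂ g₁ h6
    · exact (h3 k hk).comp g₂ g₁

/-- `B` is generated by the roots of `P` over (the image of) `A`. -/
def GenByRoots {A B : Type*} [CommRing A] [CommRing B] (ψ : A →+* B) (P : Polynomial A) : Prop :=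
  ∀ C : Subring B, ψ.range ≤ C → (∀ b, P.eval₂ ψ b = 0 → b ∈ C) → C = ⊤

theorem exists_genByRoots {A B : Type*} [CommRing A] [CommRing B] (ψ : A →+* B)
    (hψ : ψ.Finite) : ∃ P : Polynomial A, P.Monic ∧ GenByRoots ψ P := by
  classical
  algebraize [ψ]
  have hint : Algebra.IsIntegral A B := inferInstance
  obtain ⟨T, hT⟩ := (inferInstance : Algebra.FiniteType A B).out
  choose p hp hpb using fun b : B => hint.isIntegral b
  refine ⟨∏ b ∈ T, p b, Polynomial.monic_prod_of_monic _ _ fun b _ => hp b, ?_⟩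
  intro C hC hroot
  have hTC : ∀ b ∈ T, b ∈ C := fun b hb => hroot b (by
    rw [Polynomial.eval₂_finsetProd]
    exact Finset.prod_eq_zero hb (hpb b))
  rw [eq_top_iff]
  intro x _
  have hx : x ∈ Algebra.adjoin A (T : Set B) := by rw [hT]; trivial
  induction hx using Algebra.adjoin_induction with
  | mem x hx => exact hTC x hx
  | algebraMap r => exact hC ⟨r, rfl⟩
  | add x y _ _ h1 h2 => exact C.add_mem (h1 trivial) (h2 trivial)
  | mul x y _ _ h1 h2 => exact C.mul_mem (h1 trivial) (h2 trivial)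

/-- A ring hom to a domain lands in a subring over which `P` splits. -/
theorem exists_factor {A B R K : Type*} [CommRing A] [CommRing B] [CommRing R] [CommRing K]
    [IsDomain K] (ψ : A →+* B) (ρ : A →+* R) (j : R →+* K) (hj : Function.Injective j)
    (σ : B →+* K) (h : σ.comp ψ = j.comp ρ) {P : Polynomial A} (hgen : GenByRoots ψ P)
    (s : Multiset R) (hs : P.map ρ = (s.map (fun a => Polynomial.X - Polynomial.C a)).prod) :
    ∃ τ : B →+* R, j.comp τ = σ ∧ τ.comp ψ = ρ := by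
  have hrange : ∀ b, σ b ∈ j.range := by
    have h1 : j.range.comap σ = ⊤ := by
      refine hgen _ ?_ ?_
      · rintro _ ⟨a, rfl⟩
        exact ⟨ρ a, by rw [← RingHom.comp_apply, ← h]; rfl⟩
      · intro b hb
        have h2 : P.eval₂ (j.comp ρ) (σ b) = 0 := by
          rw [← h, ← Polynomial.hom_eval₂, hb, map_zero]
        rw [← Polynomial.eval₂_map, hs, Polynomial.eval₂_multiset_prod, Multiset.map_map,
          Multiset.prod_eq_zero_iff, Multiset.mem_map] at h2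
        obtain ⟨a, -, ha⟩ := h2
        refine ⟨a, ?_⟩
        simp only [Function.comp_apply, Polynomial.eval₂_sub, Polynomial.eval₂_X,
          Polynomial.eval₂_C, sub_eq_zero] at ha
        exact ha.symm
    intro b
    have : b ∈ j.range.comap σ := by rw [h1]; trivial
    exact this
  have hinj' : Function.Injective j.rangeRestrict := fun a b hab =>
    hj (congrArg Subtype.val hab)
  let e : R ≃+* j.range := RingEquiv.ofBijective j.rangeRestrict ⟨hinj', j.rangeRestrict_surjective⟩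
  let τ : B →+* R := (e.symm : j.range →+* R).comp (σ.codRestrict j.range hrange)
  have hτ : j.comp τ = σ := by
    ext b
    have : e (e.symm (σ.codRestrict j.range hrange b)) = σ.codRestrict j.range hrange b :=
      e.apply_symm_apply _
    exact congrArg Subtype.val this
  refine ⟨τ, hτ, ?_⟩
  ext a
  apply hj
  rw [RingHom.comp_apply, ← RingHom.comp_apply j τ, hτ, ← RingHom.comp_apply σ, h]
  rfl


theorem appLE_injective_of_isDominant {G S : Scheme.{u}} [IsReduced G] (ξ : S ⟶ G)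
    [IsDominant ξ] (V : G.Opens) (h : ⊤ ≤ ξ ⁻¹ᵁ V) :
    Function.Injective (ξ.appLE V ⊤ h).hom := by
  rw [injective_iff_map_eq_zero]
  intro a ha
  have h1 : (ξ ⁻¹ᵁ (G.basicOpen a) : S.Opens) = ⊥ := by
    have h2 : S.basicOpen ((ξ.appLE V ⊤ h).hom a) = ⊤ ⊓ ξ ⁻¹ᵁ (G.basicOpen a) := by
      rw [Scheme.basicOpen_appLE]
    rw [ha, Scheme.basicOpen_zero, top_inf_eq] at h2
    exact h2.symm
  by_contra hne
  have h3 : ((G.basicOpen a : G.Opens) : Set G).Nonempty := by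
    rw [Set.nonempty_iff_ne_empty]
    intro h4
    apply hne
    rw [← basicOpen_eq_bot_iff]
    exact TopologicalSpace.Opens.ext h4
  obtain ⟨_, h5, s, rfl⟩ := ξ.denseRange.inter_open_nonempty _ (G.basicOpen a).isOpen h3
  have h6 : s ∈ (ξ ⁻¹ᵁ (G.basicOpen a) : S.Opens) := h5
  rw [h1] at h6
  exact h6

theorem exists_local {Y F' G S : Scheme.{u}} (f : F' ⟶ Y) [IsFinite f] [IsIntegral G]
    (q : G ⟶ Y) [IsAffine S] [IsIntegral S] (ξ : S ⟶ G) [IsDominant ξ]
    (σ : S ⟶ F') (h : σ ≫ f = ξ ≫ q) {U : Y.Opens} (hU : IsAffineOpen U) {V : G.Opens}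
    (hV : IsAffineOpen V) (hVU : V ≤ q ⁻¹ᵁ U) (hSV : ⊤ ≤ ξ ⁻¹ᵁ V) {P : Polynomial Γ(Y, U)}
    (hgen : GenByRoots (f.app U).hom P) (hsp : SplitsOver q U P) :
    ∃ (ψ : V.toScheme ⟶ F') (e : S ⟶ V.toScheme), ψ ≫ f = V.ι ≫ q ∧ e ≫ V.ι = ξ ∧
      e ≫ ψ = σ := by
  have hU' : IsAffineOpen (f ⁻¹ᵁ U) := hU.preimage f
  have hSU' : ⊤ ≤ σ ⁻¹ᵁ (f ⁻¹ᵁ U) := by
    rw [← Scheme.Hom.comp_preimage, h, Scheme.Hom.comp_preimage]
    exact hSV.trans (ξ.preimage_mono hVU)
  obtain ⟨s, hs⟩ := hsp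
  -- ring homs
  let ψA : Γ(Y, U) →+* Γ(F', f ⁻¹ᵁ U) := (f.app U).hom
  let ρ : Γ(Y, U) →+* Γ(G, V) := (q.appLE U V hVU).hom
  let j : Γ(G, V) →+* Γ(S, ⊤) := (ξ.appLE V ⊤ hSV).hom
  let β : Γ(F', f ⁻¹ᵁ U) →+* Γ(S, ⊤) := (σ.appLE (f ⁻¹ᵁ U) ⊤ hSU').hom
  have hcomp : β.comp ψA = j.comp ρ := by
    have h1 : f.app U ≫ σ.appLE (f ⁻¹ᵁ U) ⊤ hSU' = q.appLE U V hVU ≫ ξ.appLE V ⊤ hSV := by
      rw [Scheme.Hom.appLE_comp_appLE, Scheme.Hom.app_eq_appLE, Scheme.Hom.appLE_comp_appLE]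
      simp only [h]
    exact congrArg CommRingCat.Hom.hom h1
  have hs' : P.map ρ = ((s.map (G.presheaf.map (homOfLE hVU).op).hom).map
      (fun a => Polynomial.X - Polynomial.C a)).prod := by
    have h1 := congrArg (Polynomial.map (G.presheaf.map (homOfLE hVU).op).hom) hs
    rw [Polynomial.map_map, map_prod_X_sub_C] at h1
    exact h1
  have hjinj : Function.Injective j := appLE_injective_of_isDominant ξ V hSV
  obtain ⟨τ, hτ1, hτ2⟩ := K955.FinCover.exists_factor ψA ρ j hjinj β hcomp hgen _ hs'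
  let τ' : Γ(F', f ⁻¹ᵁ U) ⟶ Γ(G, V) := CommRingCat.ofHom τ
  have e1 : f.app U ≫ τ' = q.appLE U V hVU := by
    ext x
    exact congrArg (fun φ => φ x) hτ2
  have e2 : τ' ≫ ξ.appLE V ⊤ hSV = σ.appLE (f ⁻¹ᵁ U) ⊤ hSU' := by
    ext x
    exact congrArg (fun φ => φ x) hτ1
  let ψ : V.toScheme ⟶ F' := hV.isoSpec.hom ≫ Spec.map τ' ≫ hU'.fromSpec
  let e : S ⟶ V.toScheme := IsOpenImmersion.lift V.ι ξ (by
    rw [Scheme.Opens.range_ι]
    rintro _ ⟨s, rfl⟩
    exact hSV (show s ∈ (⊤ : S.Opens) from trivial))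
  have he : e ≫ V.ι = ξ := IsOpenImmersion.lift_fac _ _ _
  refine ⟨ψ, e, ?_, he, ?_⟩
  · have h1 : hU'.fromSpec ≫ f = Spec.map (f.app U) ≫ hU.fromSpec := by
      rw [Scheme.Hom.app_eq_appLE, IsAffineOpen.SpecMap_appLE_fromSpec _ hU hU']
    simp only [ψ, Category.assoc]
    rw [h1, ← Spec.map_comp_assoc, e1, IsAffineOpen.SpecMap_appLE_fromSpec _ hU hV]
    rw [← Category.assoc, hV.isoSpec_hom_fromSpec]
  · have hepi : (isAffineOpen_top S).fromSpec ≫ e =
        Spec.map (ξ.appLE V ⊤ hSV) ≫ hV.isoSpec.inv := by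
      rw [← cancel_mono V.ι, Category.assoc, he, Category.assoc, hV.isoSpec_inv_ι,
        IsAffineOpen.SpecMap_appLE_fromSpec _ hV (isAffineOpen_top S)]
    have hiso : IsIso (isAffineOpen_top S).fromSpec := by
      rw [IsAffineOpen.fromSpec_top]
      infer_instance
    rw [← cancel_epi (isAffineOpen_top S).fromSpec, reassoc_of% hepi]
    simp only [ψ, Iso.inv_hom_id_assoc]
    rw [← Spec.map_comp_assoc, e2, IsAffineOpen.SpecMap_appLE_fromSpec _ hU' (isAffineOpen_top S)]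


theorem exists_glue {G F' : Scheme.{u}} {κ : Type u} (V : κ → G.Opens)
    (hcov : TopologicalSpace.IsOpenCover V) (ψ : ∀ x, (V x).toScheme ⟶ F')
    (h : ∀ x y, pullback.fst (V x).ι (V y).ι ≫ ψ x = pullback.snd (V x).ι (V y).ι ≫ ψ y) :
    ∃ φ : G ⟶ F', ∀ x, (V x).ι ≫ φ = ψ x :=
  ⟨(G.openCoverOfIsOpenCover V hcov).glueMorphisms ψ h,
    fun x => (G.openCoverOfIsOpenCover V hcov).ι_glueMorphisms ψ h x⟩

theorem exists_lift {Y F' G S : Scheme.{u}} (f : F' ⟶ Y) [IsFinite f] [IsIntegral G]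
    (q : G ⟶ Y) [IsAffine S] [IsIntegral S] [Subsingleton S] (ξ : S ⟶ G) [IsDominant ξ]
    (σ : S ⟶ F') (h : σ ≫ f = ξ ≫ q)
    (hfac : ∀ y : Y, ∃ U : Y.Opens, IsAffineOpen U ∧ y ∈ U ∧ ∃ P : Polynomial Γ(Y, U),
      GenByRoots (f.app U).hom P ∧ SplitsOver q U P) :
    ∃ φ : G ⟶ F', φ ≫ f = q := by
  choose U hU hyU P hgen hsp using hfac
  have hex : ∀ x : G, ∃ V : G.Opens, IsAffineOpen V ∧ x ∈ V ∧ V ≤ q ⁻¹ᵁ (U (q x)) := by
    intro x
    obtain ⟨_, ⟨V, hV, rfl⟩, hxV, hVU⟩ := G.isBasis_affineOpens.exists_subset_of_mem_open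
      (show x ∈ ((q ⁻¹ᵁ (U (q x)) : G.Opens) : Set G) from hyU (q x)) (q ⁻¹ᵁ (U (q x))).isOpen
    exact ⟨V, hV, hxV, hVU⟩
  choose V hV hxV hVU using hex
  have hSV : ∀ x, ⊤ ≤ ξ ⁻¹ᵁ (V x) := by
    intro x s _
    obtain ⟨_, h5, s', rfl⟩ := ξ.denseRange.inter_open_nonempty _ (V x).isOpen ⟨x, hxV x⟩
    rw [Subsingleton.elim s s']
    exact h5
  choose ψ e h1 h2 h3 using fun x => exists_local f q ξ σ h (hU (q x)) (hV x) (hVU x) (hSV x)
    (hgen _) (hsp _)
  have hcov : TopologicalSpace.IsOpenCover V := by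
    rw [TopologicalSpace.IsOpenCover, eq_top_iff]
    intro x _
    exact TopologicalSpace.Opens.mem_iSup.mpr ⟨x, hxV x⟩
  have hglue : ∀ x y, pullback.fst (V x).ι (V y).ι ≫ ψ x =
      pullback.snd (V x).ι (V y).ι ≫ ψ y := by
    intro x y
    let a : S ⟶ pullback (V x).ι (V y).ι :=
      pullback.lift (e x) (e y) ((h2 x).trans (h2 y).symm)
    have ha1 : a ≫ pullback.fst (V x).ι (V y).ι = e x := pullback.lift_fst _ _ _
    have ha2 : a ≫ pullback.snd (V x).ι (V y).ι = e y := pullback.lift_snd _ _ _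
    have hdom : IsDominant (a ≫ (pullback.fst (V x).ι (V y).ι ≫ (V x).ι)) := by
      rw [reassoc_of% ha1, h2]
      infer_instance
    have : IsDominant a :=
      IsDominant.of_comp_of_isOpenImmersion a (pullback.fst (V x).ι (V y).ι ≫ (V x).ι)
    have : IsReduced (pullback (V x).ι (V y).ι) :=
      isReduced_of_isOpenImmersion (pullback.fst (V x).ι (V y).ι ≫ (V x).ι)
    refine ext_of_isDominant_of_isSeparated f ?_ a ?_
    · rw [Category.assoc, Category.assoc, h1, h1, pullback.condition_assoc]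
    · rw [reassoc_of% ha1, reassoc_of% ha2, h3, h3]
  obtain ⟨φ, hφ⟩ := exists_glue V hcov ψ hglue
  refine ⟨φ, Scheme.hom_ext_of_forall _ _ fun x => ⟨V x, hxV x, ?_⟩⟩
  rw [reassoc_of% (hφ x)]
  exact h1 x

/-- A finite surjective morphism has points over algebraically closed fields. -/
theorem exists_section {L : Type u} [Field L] [IsAlgClosed L] {T : Scheme.{u}}
    (p : T ⟶ Spec (.of L)) [IsFinite p] [Surjective p] :
    ∃ σ : Spec (.of L) ⟶ T, σ ≫ p = 𝟙 _ := by
  have : IsAffine T := isAffine_of_isAffineHom p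
  let C : CommRingCat.{u} := Γ(T, ⊤)
  let φ : CommRingCat.of L ⟶ C := Spec.preimage (T.isoSpec.inv ≫ p)
  have hφ' : Spec.map φ = T.isoSpec.inv ≫ p := Spec.map_preimage _
  have hφ : φ.hom.Finite := by
    rw [← IsFinite.SpecMap_iff, hφ']
    infer_instance
  have hne : Nonempty T := by
    obtain ⟨x, -⟩ := p.surjective (IsLocalRing.closedPoint L)
    exact ⟨x⟩
  have hC : Nontrivial C := by
    have : Nonempty (Spec C) := ⟨T.isoSpec.hom hne.some⟩
    exact (PrimeSpectrum.nonempty_iff_nontrivial (R := C)).mp this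
  obtain ⟨χ, hχ⟩ : ∃ χ : C ⟶ CommRingCat.of L, φ ≫ χ = 𝟙 _ := by
    obtain ⟨m, hm⟩ := Ideal.exists_maximal C
    algebraize [φ.hom]
    let _ : Field (C ⧸ m) := Ideal.Quotient.field m
    have : Algebra.IsIntegral L C := inferInstance
    have : Algebra.IsIntegral L (C ⧸ m) := inferInstance
    have hb := IsAlgClosed.algebraMap_bijective_of_isIntegral (k := L) (K := C ⧸ m)
    let e : L ≃+* (C ⧸ m) := RingEquiv.ofBijective _ hb
    refine ⟨CommRingCat.ofHom ((e.symm : (C ⧸ m) →+* L).comp (Ideal.Quotient.mk m)), ?_⟩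
    ext x
    change e.symm (Ideal.Quotient.mk m (φ.hom x)) = x
    rw [RingEquiv.symm_apply_eq]
    rfl
  refine ⟨Spec.map χ ≫ T.isoSpec.inv, ?_⟩
  rw [Category.assoc, ← hφ', ← Spec.map_comp, hχ, Spec.map_id]

theorem exists_cover {Y F' : Scheme.{u}} [CompactSpace Y] [QuasiSeparatedSpace Y] (f : F' ⟶ Y)
    [IsFinite f] :
    ∃ (Y' : Scheme.{u}) (g : Y' ⟶ Y), IsFinite g ∧ Surjective g ∧
      ∀ y : Y, ∃ U : Y.Opens, IsAffineOpen U ∧ y ∈ U ∧ ∃ P : Polynomial Γ(Y, U),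
        GenByRoots (f.app U).hom P ∧ SplitsOver g U P := by
  have h1 : ∀ y : Y, ∃ U : Y.Opens, IsAffineOpen U ∧ y ∈ U := by
    intro y
    obtain ⟨_, ⟨V, hV, rfl⟩, hxV, -⟩ := Y.isBasis_affineOpens.exists_subset_of_mem_open
      (Set.mem_univ y) isOpen_univ
    exact ⟨V, hV, hxV⟩
  choose U hU hyU using h1
  have h2 : ∀ y : Y, ∃ P : Polynomial Γ(Y, U y), P.Monic ∧ GenByRoots (f.app (U y)).hom P :=
    fun y => exists_genByRoots _ (IsFinite.finite_app (f := f) (U y) (hU y))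
  choose P hP hgen using h2
  obtain ⟨t, ht⟩ := isCompact_univ.elim_finite_subcover (fun y => ((U y : Y.Opens) : Set Y))
    (fun y => (U y).isOpen) (fun y _ => Set.mem_iUnion.mpr ⟨y, hyU y⟩)
  obtain ⟨Y', g, h3, h4, h5⟩ := exists_splits_family U hU P hP t
  refine ⟨Y', g, h3, h4, fun y => ?_⟩
  obtain ⟨z, hz⟩ := Set.mem_iUnion.mp (ht (Set.mem_univ y))
  obtain ⟨hz, hy⟩ := Set.mem_iUnion.mp hz
  exact ⟨U z, hU z, hy, P z, hgen z, h5 z hz⟩


theorem exists_geometric_point (G : Scheme.{u}) [IsIntegral G] :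
    ∃ (L : Type u) (_ : Field L) (_ : IsAlgClosed L) (ξ : Spec (.of L) ⟶ G), IsDominant ξ := by
  let K := G.functionField
  let L := AlgebraicClosure K
  refine ⟨L, inferInstance, inferInstance,
    Spec.map (CommRingCat.ofHom (algebraMap K L)) ≫ G.fromSpecStalk (genericPoint G), ⟨?_⟩⟩
  let ξ := Spec.map (CommRingCat.ofHom (algebraMap K L)) ≫ G.fromSpecStalk (genericPoint G)
  let z : Spec (.of L) := IsLocalRing.closedPoint L
  have h1 : ξ z ⤳ genericPoint G := by
    have : ξ z ∈ Set.range (G.fromSpecStalk (genericPoint G)) := by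
      refine ⟨Spec.map (CommRingCat.ofHom (algebraMap K L)) z, ?_⟩
      rw [← Scheme.Hom.comp_apply]
    rw [Scheme.range_fromSpecStalk] at this
    exact this
  have h2 : closure ({ξ z} : Set G) = Set.univ := by
    rw [Set.eq_univ_iff_forall]
    intro y
    exact specializes_iff_mem_closure.mp (h1.trans (genericPoint_specializes y))
  exact Dense.mono (Set.singleton_subset_iff.mpr ⟨z, rfl⟩) (dense_iff_closure_eq.mpr h2)

end K955.FinCover
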